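import Groth.Prelude.Def_Curves
import Mathlib.RingTheory.Nullstellensatz
import Mathlib.RingTheory.Ideal.KrullsHeightTheorem
import Mathlib.RingTheory.Polynomial.Basic
import Mathlib.RingTheory.AlgebraicIndependent.TranscendenceBasis
import Mathlib.RingTheory.AlgebraicIndependent.Transcendental
import Mathlib.FieldTheory.RatFunc.AsPolynomial
import Mathlib.RingTheory.AlgebraicIndependent.AlgebraicClosure
import Mathlib.FieldTheory.IntermediateField.Adjoin.Basic
import Mathlib.RingTheory.Localization.Integer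
import Mathlib.LinearAlgebra.Dimension.Finrank

/-!
# C_i fields for systems of forms (Tsen–Lang)
-/

set_option autoImplicit false

universe u v w

open MvPolynomial

namespace TsenLib

theorem le_height_ker_aeval (k : Type u) [Field k] (n : ℕ) :
    (n : ℕ∞) ≤ (RingHom.ker (aeval (fun _ => (0 : k)) : MvPolynomial (Fin n) k →ₐ[k] k)).height := by
  let φ : ℕ → MvPolynomial (Fin n) k →ₐ[k] MvPolynomial (Fin n) k := fun i =>
    aeval fun j => if (j : ℕ) < i then 0 else X j
  let P : ℕ → Ideal (MvPolynomial (Fin n) k) := fun i => RingHom.ker (φ i)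
  have hP : ∀ i, (P i).IsPrime := fun i => RingHom.ker_isPrime _
  have hstep : ∀ i, φ (i + 1) = (φ (i + 1)).comp (φ i) := fun i => MvPolynomial.algHom_ext fun j => by
    by_cases h : (j : ℕ) < i
    · simp [φ, h, le_of_lt h]
    · simp [φ, h]
  have main : ∀ i, i ≤ n → (i : ℕ∞) ≤ (P i).height := by
    intro i
    induction i with
    | zero => intro _; simp
    | succ i ih =>
      intro hi
      haveI := hP i
      haveI := hP (i + 1)
      have hlt : P i < P (i + 1) := by
        refine lt_of_le_of_ne (fun p hp => ?_) fun heq => ?_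
        · change φ (i + 1) p = 0
          rw [hstep i, AlgHom.comp_apply, show φ i p = 0 from hp, map_zero]
        · have hx : (X ⟨i, hi⟩ : MvPolynomial (Fin n) k) ∈ P (i + 1) :=
            show φ (i + 1) (X ⟨i, hi⟩) = 0 by simp [φ]
          rw [← heq] at hx
          have hx' : φ i (X ⟨i, hi⟩) = 0 := hx
          simp [φ] at hx'
      refine le_trans ?_ (Order.add_one_le_of_lt (Ideal.height_strict_mono_of_isPrime_of_isPrime hlt))
      push_cast
      exact add_le_add (ih (Nat.le_of_succ_le hi)) le_rfl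
  refine (main n le_rfl).trans (Ideal.height_mono fun p hp => ?_)
  have h : φ n = (Algebra.ofId k (MvPolynomial (Fin n) k)).comp
      (aeval (fun _ => (0 : k)) : MvPolynomial (Fin n) k →ₐ[k] k) :=
    MvPolynomial.algHom_ext fun j => by simp [φ, j.isLt]
  have hp' : φ n p = 0 := hp
  rw [h, AlgHom.comp_apply] at hp'
  exact (algebraMap k (MvPolynomial (Fin n) k)).injective (hp'.trans (map_zero _).symm)

theorem isCi_zero (k : Type u) [Field k] [IsAlgClosed k] : Curves.IsCi k 0 := by
  intro r n f d hf hd hn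
  simp only [pow_zero, Finset.sum_const, Finset.card_univ, Fintype.card_fin, smul_eq_mul, mul_one] at hn
  set m0 : Ideal (MvPolynomial (Fin n) k) :=
    RingHom.ker (aeval (fun _ => (0 : k)) : MvPolynomial (Fin n) k →ₐ[k] k)
  haveI : m0.IsPrime := RingHom.ker_isPrime _
  have hle : Ideal.span (Set.range f) ≤ m0 := by
    rw [Ideal.span_le]
    rintro _ ⟨ρ, rfl⟩
    change aeval (fun _ => (0 : k)) (f ρ) = 0
    rw [aeval_zero', constantCoeff_eq, (hf ρ).coeff_eq_zero (by simpa using (hd ρ).ne), map_zero]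
  obtain ⟨P, hP, hPm⟩ := Ideal.exists_minimalPrimes_le hle
  haveI : P.IsPrime := hP.1.1
  by_contra hcon
  push Not at hcon
  have hz : zeroLocus k P ⊆ {fun _ => (0 : k)} := fun x hx => by
    by_contra hx0
    obtain ⟨ρ, hρ⟩ := hcon x hx0
    exact hρ (by
      rw [← MvPolynomial.coe_aeval_eq_eval]
      exact hx _ (hP.1.2 (Ideal.subset_span ⟨ρ, rfl⟩)))
  have hm : m0 ≤ P := by
    rw [← MvPolynomial.IsPrime.vanishingIdeal_zeroLocus (K := k) P]
    intro p hp x hx
    rw [Set.mem_singleton_iff.1 (hz hx)]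
    exact hp
  have h1 : (n : ℕ∞) ≤ r := calc
    (n : ℕ∞) ≤ m0.height := le_height_ker_aeval k n
    _ ≤ P.height := Ideal.height_mono hm
    _ ≤ ((Set.range f).ncard : ℕ∞) :=
      Ideal.height_le_card_of_mem_minimalPrimes_span (Set.finite_range f) hP
    _ ≤ r := by
      gcongr
      rw [← Nat.card_coe_set_eq]
      exact (Finite.card_range_le f).trans (by simp)
  exact absurd (Nat.cast_le.1 h1) (Nat.not_le.2 hn)

/-- The property for forms indexed by arbitrary finite types. -/
theorem exists_zero_fintype {K : Type u} [Field K] {i : ℕ} (hK : Curves.IsCi K i)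
    {ι : Type v} [Fintype ι] {σ : Type w} [Fintype σ] (f : ι → MvPolynomial σ K) (d : ι → ℕ)
    (hf : ∀ ρ, (f ρ).IsHomogeneous (d ρ)) (hd : ∀ ρ, 0 < d ρ) (hn : ∑ ρ, d ρ ^ i < Fintype.card σ) :
    ∃ a : σ → K, a ≠ 0 ∧ ∀ ρ, eval a (f ρ) = 0 := by
  let e := Fintype.equivFin ι
  let s := Fintype.equivFin σ
  obtain ⟨a, ha, h⟩ := hK _ _ (fun r => rename s (f (e.symm r))) (fun r => d (e.symm r))
    (fun r => (hf _).rename_isHomogeneous) (fun r => hd _)
    (by rwa [e.symm.sum_comp (fun ρ => d ρ ^ i)])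
  refine ⟨a ∘ s, fun h0 => ha (funext fun j => by simpa using congrFun h0 (s.symm j)), fun ρ => ?_⟩
  have := h (e ρ)
  rwa [eval_rename, Equiv.symm_apply_apply] at this

section Descend

variable {K : Type u} [Field K] {R : Type v} [CommRing R] [Algebra K R] {σ : Type w}

/-- Apply a linear functional to the coefficients. -/
noncomputable def coord (μ : R →ₗ[K] K) (P : MvPolynomial σ R) : MvPolynomial σ K :=
  ∑ m ∈ P.support, monomial m (μ (coeff m P))

theorem eval_coord (μ : R →ₗ[K] K) (P : MvPolynomial σ R) (y : σ → K) :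
    eval y (coord μ P) = μ (eval (fun j => algebraMap K R (y j)) P) := by
  rw [coord, map_sum]
  conv_rhs => rw [P.as_sum, map_sum, map_sum]
  refine Finset.sum_congr rfl fun m _ => ?_
  rw [eval_monomial, eval_monomial, mul_comm (coeff m P)]
  simp only [Finsupp.prod, ← map_pow, ← map_prod, ← Algebra.smul_def]
  rw [map_smul, smul_eq_mul, mul_comm]

theorem coord_isHomogeneous (μ : R →ₗ[K] K) {P : MvPolynomial σ R} {d : ℕ} (h : P.IsHomogeneous d) :
    (coord μ P).IsHomogeneous d :=
  IsHomogeneous.sum _ _ _ fun m hm => isHomogeneous_monomial _ (by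
    simpa [Finsupp.weight_apply, Finsupp.degree, Finsupp.sum] using h (mem_support_iff.1 hm))

/-- Common zeros of forms with coefficients in `R`, in the span of an independent family. -/
theorem descend {i : ℕ} (hK : Curves.IsCi K i) {r n e : ℕ} (b : Fin e → R) (hb : LinearIndependent K b)
    (g : Fin r → MvPolynomial (Fin n) R) (d : Fin r → ℕ) (hg : ∀ ρ, (g ρ).IsHomogeneous (d ρ))
    (hd : ∀ ρ, 0 < d ρ) (c : Fin r → ℕ) (μ : ∀ ρ, Fin (c ρ) → R →ₗ[K] K)
    (hμ : ∀ ρ (x : Fin n → R), (∀ j, x j ∈ Submodule.span K (Set.range b)) →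
      (∀ s, μ ρ s (eval x (g ρ)) = 0) → eval x (g ρ) = 0)
    (hn : ∑ ρ, c ρ * d ρ ^ i < n * e) :
    ∃ x : Fin n → R, x ≠ 0 ∧ ∀ ρ, eval x (g ρ) = 0 := by
  let sub : Fin n → MvPolynomial (Fin n × Fin e) R := fun j => ∑ s, C (b s) * X (j, s)
  have hsub : ∀ j, (sub j).IsHomogeneous 1 := fun j =>
    IsHomogeneous.sum _ _ _ fun s _ => by simpa using (isHomogeneous_C _ (b s)).mul (isHomogeneous_X R (j, s))
  have hG : ∀ ρ, (aeval sub (g ρ)).IsHomogeneous (d ρ) := fun ρ => by
    simpa using (hg ρ).aeval sub hsub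
  obtain ⟨y, hy, h⟩ := exists_zero_fintype hK
    (fun p : (ρ : Fin r) × Fin (c ρ) => coord (μ p.1 p.2) (aeval sub (g p.1))) (fun p => d p.1)
    (fun p => coord_isHomogeneous _ (hG p.1)) (fun p => hd p.1)
    (by simpa [Fintype.sum_sigma] using hn)
  let x : Fin n → R := fun j => ∑ s, y (j, s) • b s
  have hev : ∀ ρ, eval (fun q => algebraMap K R (y q)) (aeval sub (g ρ)) = eval x (g ρ) := fun ρ => by
    rw [aeval_eq_bind₁]
    change eval₂Hom (RingHom.id R) _ (bind₁ sub (g ρ)) = _
    rw [eval₂Hom_bind₁]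
    refine congrArg (fun v => eval₂Hom (RingHom.id R) v (g ρ)) (funext fun j => ?_)
    simp [sub, x, Algebra.smul_def, mul_comm]
  refine ⟨x, fun h0 => hy (funext fun ⟨j, s⟩ => ?_), fun ρ => hμ ρ x (fun j => ?_) fun s => ?_⟩
  · exact Fintype.linearIndependent_iff.1 hb (fun s => y (j, s)) (congrFun h0 j) s
  · exact Submodule.sum_mem _ fun s _ => Submodule.smul_mem _ _ (Submodule.subset_span ⟨s, rfl⟩)
  · have := h ⟨ρ, s⟩
    rwa [eval_coord, hev] at this

end Descend

theorem isCi_of_isAlgebraic (K : Type u) [Field K] (L : Type v) [Field L] [Algebra K L]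
    [Algebra.IsAlgebraic K L] (i : ℕ) (hK : Curves.IsCi K i) : Curves.IsCi L i := by
  classical
  intro r n f d hf hd hn
  let S : Set L := ⋃ ρ, ↑((f ρ).support.image fun m => coeff m (f ρ))
  have hS : S.Finite := Set.finite_iUnion fun ρ => Finset.finite_toSet _
  haveI : Finite S := hS.to_subtype
  let E := IntermediateField.adjoin K S
  haveI : FiniteDimensional K E :=
    IntermediateField.finiteDimensional_adjoin fun x _ => Algebra.IsIntegral.isIntegral x
  have hmem : ∀ ρ m, coeff m (f ρ) ∈ E := fun ρ m => by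
    by_cases h : m ∈ (f ρ).support
    · exact IntermediateField.subset_adjoin K S (Set.mem_iUnion.2 ⟨ρ, Finset.mem_image_of_mem _ h⟩)
    · rw [notMem_support_iff.1 h]; exact zero_mem _
  choose g hg using fun ρ => (show f ρ ∈ Set.range (MvPolynomial.map (algebraMap E L)) from
    mem_range_map_iff_coeffs_subset.2 fun c hc => by
      obtain ⟨m, -, rfl⟩ := mem_coeffs_iff.1 hc
      exact ⟨⟨_, hmem ρ m⟩, rfl⟩)
  let b := Module.finBasis K E
  have hdim : 0 < Module.finrank K E := Module.finrank_pos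
  obtain ⟨x, hx, h⟩ := descend hK b b.linearIndependent g d
    (fun ρ => IsHomogeneous.of_map (algebraMap E L).injective (by rw [hg ρ]; exact hf ρ)) hd
    (fun _ => Module.finrank K E) (fun _ s => b.coord s)
    (fun ρ x _ h => b.forall_coord_eq_zero_iff.1 h)
    (by rw [← Finset.mul_sum, mul_comm n]; exact Nat.mul_lt_mul_of_pos_left hn hdim)
  refine ⟨fun j => algebraMap E L (x j), fun h0 => hx (funext fun j => (algebraMap E L).injective ?_), fun ρ => ?_⟩
  · simpa using congrFun h0 j
  · rw [← hg ρ, eval_map]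
    rw [show eval₂ (algebraMap E L) (fun j => algebraMap E L (x j)) (g ρ) = algebraMap E L (eval x (g ρ))
      from (eval₂_comp (algebraMap E L) x (g ρ)).symm, h ρ, map_zero]

theorem isCi_succ_ratFunc (K : Type u) [Field K] (i : ℕ) (hK : Curves.IsCi K i) :
    Curves.IsCi (RatFunc K) (i + 1) := by
  classical
  intro r n f d hf hd hn
  obtain ⟨b0, hb0⟩ := IsLocalization.exist_integer_multiples_of_finset (nonZeroDivisors (Polynomial K))
    (Finset.univ.biUnion fun ρ => (f ρ).support.image fun m => coeff m (f ρ))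
  let q : RatFunc K := algebraMap (Polynomial K) (RatFunc K) b0
  have hq : q ≠ 0 := IsFractionRing.to_map_ne_zero_of_mem_nonZeroDivisors b0.2
  have hrange : ∀ ρ, C q * f ρ ∈ Set.range (MvPolynomial.map (algebraMap (Polynomial K) (RatFunc K))) := by
    intro ρ
    refine mem_range_map_iff_coeffs_subset.2 fun c hc => ?_
    obtain ⟨m, hm, rfl⟩ := mem_coeffs_iff.1 hc
    rw [coeff_C_mul]
    have hm' : m ∈ (f ρ).support := by
      rw [mem_support_iff] at hm ⊢
      rw [coeff_C_mul] at hm
      exact right_ne_zero_of_mul hm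
    obtain ⟨a, ha⟩ := hb0 (coeff m (f ρ))
      (Finset.mem_biUnion.2 ⟨ρ, Finset.mem_univ ρ, Finset.mem_image_of_mem _ hm'⟩)
    exact ⟨a, by rw [ha, Algebra.smul_def]⟩
  choose g hg using hrange
  have hgh : ∀ ρ, (g ρ).IsHomogeneous (d ρ) := fun ρ =>
    IsHomogeneous.of_map (IsFractionRing.injective _ _) (by rw [hg ρ]; exact (hf ρ).C_mul q)
  let D : Fin r → ℕ := fun ρ => (g ρ).support.sup fun m => (coeff m (g ρ)).natDegree
  let t := ∑ ρ, (D ρ + 1) * d ρ ^ i
  have hdeg : ∀ ρ (x : Fin n → Polynomial K), (∀ j, (x j).natDegree ≤ t) →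
      (eval x (g ρ)).natDegree < d ρ * t + D ρ + 1 := by
    intro ρ x hx
    refine Nat.lt_succ_of_le ?_
    rw [eval_eq]
    refine Polynomial.natDegree_sum_le_of_forall_le _ _ fun m hm => Polynomial.natDegree_mul_le.trans ?_
    have h1 : (coeff m (g ρ)).natDegree ≤ D ρ := Finset.le_sup (f := fun m => (coeff m (g ρ)).natDegree) hm
    have h2 : (∏ j ∈ m.support, x j ^ m j).natDegree ≤ d ρ * t := by
      refine (Polynomial.natDegree_prod_le _ _).trans ?_
      have hsum : ∑ j ∈ m.support, m j = d ρ := by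
        simpa [Finsupp.weight_apply, Finsupp.sum] using hgh ρ (mem_support_iff.1 hm)
      rw [← hsum, Finset.sum_mul]
      exact Finset.sum_le_sum fun j _ => Polynomial.natDegree_pow_le.trans (Nat.mul_le_mul_left _ (hx j))
    omega
  obtain ⟨x, hx, h⟩ := descend hK (fun s : Fin (t + 1) => (Polynomial.X : Polynomial K) ^ (s : ℕ))
    (by
      rw [Fintype.linearIndependent_iff]
      intro c hc s
      simpa [Polynomial.finsetSum_coeff, Polynomial.coeff_X_pow, Fin.val_inj] using
        congrArg (fun p => Polynomial.coeff p (s : ℕ)) hc)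
    g d hgh hd (fun ρ => d ρ * t + D ρ + 1) (fun _ s => Polynomial.lcoeff K (s : ℕ))
    (fun ρ x hxs h => by
      have hx : ∀ j, (x j).natDegree ≤ t := fun j => by
        have hle : Submodule.span K (Set.range fun s : Fin (t + 1) => (Polynomial.X : Polynomial K) ^ (s : ℕ)) ≤
            Polynomial.degreeLT K (t + 1) := Submodule.span_le.2 (by
          rintro _ ⟨s, rfl⟩
          exact Polynomial.mem_degreeLT.2 (by rw [Polynomial.degree_X_pow]; exact_mod_cast s.isLt))
        exact Polynomial.natDegree_le_iff_coeff_eq_zero.2 fun N hN =>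
          Polynomial.coeff_eq_zero_of_degree_lt
            ((Polynomial.mem_degreeLT.1 (hle (hxs j))).trans_le (by exact_mod_cast hN))
      refine Polynomial.ext fun s => ?_
      by_cases hs : s < d ρ * t + D ρ + 1
      · simpa using h ⟨s, hs⟩
      · rw [Polynomial.coeff_eq_zero_of_natDegree_lt ((hdeg ρ x hx).trans_le (not_lt.1 hs)), Polynomial.coeff_zero])
    (by
      have e1 : ∑ ρ, (d ρ * t + D ρ + 1) * d ρ ^ i = t * (∑ ρ, d ρ ^ (i + 1)) + t := by
        rw [Finset.mul_sum]
        change _ = _ + ∑ ρ, (D ρ + 1) * d ρ ^ i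
        rw [← Finset.sum_add_distrib]
        exact Finset.sum_congr rfl fun ρ _ => by ring
      rw [e1]
      calc t * (∑ ρ, d ρ ^ (i + 1)) + t = t * ((∑ ρ, d ρ ^ (i + 1)) + 1) := by ring
        _ ≤ t * n := Nat.mul_le_mul_left _ hn
        _ < n * (t + 1) := by rw [mul_comm t, Nat.mul_succ]; omega)
  refine ⟨fun j => algebraMap (Polynomial K) (RatFunc K) (x j),
    fun h0 => hx (funext fun j => IsFractionRing.injective (Polynomial K) (RatFunc K) ?_), fun ρ => ?_⟩
  · simpa using congrFun h0 j
  · have h1 : eval (fun j => algebraMap (Polynomial K) (RatFunc K) (x j)) (C q * f ρ) = 0 := by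
      rw [← hg ρ, eval_map, show eval₂ (algebraMap (Polynomial K) (RatFunc K))
        (fun j => algebraMap (Polynomial K) (RatFunc K) (x j)) (g ρ) =
        algebraMap (Polynomial K) (RatFunc K) (eval x (g ρ)) from (eval₂_comp _ x (g ρ)).symm, h ρ, map_zero]
    rw [map_mul, eval_C] at h1
    exact (mul_eq_zero.1 h1).resolve_left hq

theorem isCi_add (k : Type u) [Field k] (K : Type v) [Field K] [Algebra k K] (m t : ℕ) (x : Fin t → K)
    (hx : IsTranscendenceBasis k x) (hk : Curves.IsCi k m) : Curves.IsCi K (m + t) := by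
  have main : ∀ l, l ≤ t → Curves.IsCi (IntermediateField.adjoin k (x '' {j | (j : ℕ) < l})) (m + l) := by
    intro l
    induction l with
    | zero =>
      intro _
      haveI : Algebra.IsAlgebraic k (IntermediateField.adjoin k (x '' {j : Fin t | (j : ℕ) < 0})) := by
        refine IntermediateField.isAlgebraic_adjoin fun y hy => ?_
        simp at hy
      exact isCi_of_isAlgebraic k _ m hk
    | succ l ih =>
      intro hl
      set E := IntermediateField.adjoin k (x '' {j : Fin t | (j : ℕ) < l}) with hE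
      have htr : Transcendental E (x ⟨l, hl⟩) := by
        have h := hx.1.transcendental_adjoin (s := {j : Fin t | (j : ℕ) < l}) (i := ⟨l, hl⟩) (lt_irrefl l)
        exact IntermediateField.transcendental_adjoin_iff.2 h
      have hrf : Curves.IsCi (RatFunc E) (m + l + 1) := isCi_succ_ratFunc E _ (ih (Nat.le_of_succ_le hl))
      let e := RatFunc.algEquivOfTranscendental (x ⟨l, hl⟩) htr
      letI : Algebra (RatFunc E) (IntermediateField.adjoin E {x ⟨l, hl⟩}) := e.toAlgHom.toRingHom.toAlgebra
      haveI : Algebra.IsAlgebraic (RatFunc E) (IntermediateField.adjoin E {x ⟨l, hl⟩}) := ⟨fun y => by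
        rw [← e.apply_symm_apply y]
        exact isAlgebraic_algebraMap (e.symm y)⟩
      have h1 : Curves.IsCi (IntermediateField.adjoin E {x ⟨l, hl⟩}) (m + l + 1) :=
        isCi_of_isAlgebraic (RatFunc E) _ _ hrf
      have hset : x '' {j : Fin t | (j : ℕ) < l + 1} = x '' {j : Fin t | (j : ℕ) < l} ∪ {x ⟨l, hl⟩} := by
        rw [← Set.image_singleton, ← Set.image_union]
        congr 1
        ext j
        simp [Fin.ext_iff]
        omega
      rw [hset, ← IntermediateField.adjoin_adjoin_left]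
      exact h1
  have h := main t le_rfl
  rw [show x '' {j : Fin t | (j : ℕ) < t} = Set.range x by simp] at h
  haveI := hx.isAlgebraic_field
  exact isCi_of_isAlgebraic _ K _ h

theorem tsen_lang (k : Type u) [Field k] [IsAlgClosed k] (K : Type u) [Field K] [Algebra k K] (j : ℕ)
    (hj : Algebra.trdeg k K = j) : Curves.IsCi K j := by
  obtain ⟨s, hs⟩ := exists_isTranscendenceBasis k K
  have hc : Cardinal.mk s = j := hs.cardinalMk_eq_trdeg.trans hj
  obtain ⟨e⟩ := Cardinal.mk_eq_nat_iff.1 hc
  simpa using isCi_add k K 0 j _ (hs.comp_equiv e.symm) (isCi_zero k)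

end TsenLib
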